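import Mathlib

/-!
# Permutations agreeing with affine maps on triples
-/

set_option autoImplicit false

namespace Cfsg.Agent.ThreeClosed

variable {p d : ℕ} [Fact p.Prime]

/-- A map agreeing on each triple with an affine map preserves midpoints, so is affine in odd characteristic. -/
theorem affine_of_triples (hp : p ≠ 2) (σ : Equiv.Perm (Fin d → ZMod p))
    (h : ∀ t : Fin 3 → (Fin d → ZMod p), ∃ (A : (Fin d → ZMod p) ≃ₗ[ZMod p] (Fin d → ZMod p)) (b : Fin d → ZMod p),
      ∀ i, σ (t i) = A (t i) + b) :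
    ∃ (A : (Fin d → ZMod p) ≃ₗ[ZMod p] (Fin d → ZMod p)) (b : Fin d → ZMod p), ∀ x, σ x = A x + b := by
  have h2 : (2 : ZMod p) ≠ 0 := by
    intro h0
    have : (p : ℕ) ∣ 2 := by
      rw [← ZMod.natCast_eq_zero_iff]; exact_mod_cast h0
    exact hp ((Nat.prime_dvd_prime_iff_eq Fact.out Nat.prime_two).1 this)
  have hmid : ∀ x m y : Fin d → ZMod p, x + y = m + m → σ x + σ y = σ m + σ m := by
    intro x m y hxy
    obtain ⟨A, b, hA⟩ := h ![x, m, y]
    have h0 := hA 0; have h1 := hA 1; have h3 := hA 2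
    simp only [Matrix.cons_val] at h0 h1 h3
    rw [h0, h1, h3, add_add_add_comm, ← map_add, hxy, map_add, add_add_add_comm]
  have hadd : ∀ x y, σ (x + y) - σ 0 = (σ x - σ 0) + (σ y - σ 0) := by
    intro x y
    set m := (2 : ZMod p)⁻¹ • (x + y) with hm
    have hmm : m + m = x + y := by
      rw [hm, ← add_smul, ← two_mul, mul_inv_cancel₀ h2, one_smul]
    have e1 := hmid x m y hmm.symm
    have e2 := hmid (x + y) m 0 (by rw [add_zero, hmm])
    rw [← e1] at e2
    rw [show σ (x + y) = σ x + σ y - σ 0 from eq_sub_of_add_eq e2]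
    abel
  let L : (Fin d → ZMod p) →ₗ[ZMod p] (Fin d → ZMod p) :=
    (AddMonoidHom.mk' (fun x => σ x - σ 0) hadd).toZModLinearMap p
  refine ⟨LinearEquiv.ofBijective L ⟨fun a b hab => σ.injective (sub_left_injective hab),
    fun y => ⟨σ.symm (y + σ 0), ?_⟩⟩, σ 0, fun x => ?_⟩
  · show σ (σ.symm (y + σ 0)) - σ 0 = y
    simp
  · show σ x = σ x - σ 0 + σ 0
    simp

end Cfsg.Agent.ThreeClosed
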